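import Cfsg.Agent.UGT.ThE.Fix
import Cfsg.Agent.UGT.Parity

/-!
# Theorem E, IV: the end, `x ∈ X` (parity)
-/

set_option autoImplicit false

open Subgroup MulAction

namespace Cfsg.Agent.UGT.ThE.Base

variable {G : Type*} [Group G]

/-- `M₀` is (the kernel of) a character with values `±1` of `N(L)` -/
def Par (L M₀ : Subgroup G) : Prop :=
  ∀ a ∈ normalizer (L : Set G), ∀ b ∈ normalizer (L : Set G), (a * b ∈ M₀ ↔ (a ∈ M₀ ↔ b ∈ M₀))

/-- the sign character of a `±1`-character of `N(L)` (`M₀` its kernel), computed with the points of `G / N(L)`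
fixed by a 2-subgroup `T ≤ C(e)`: it is `-1` at `e` if `e` normalizes exactly one `T`-invariant conjugate of
`L` on which it is odd. -/
theorem exists_sign [Finite G] {L M₀ : Subgroup G} (hmul : Par L M₀) :
    ∃ f : G →* ℤˣ, ∀ (e : G) (T : Subgroup G), e * e = 1 → IsPGroup 2 T →
      T ≤ centralizer ({e} : Set G) → e ∈ normalizer (L : Set G) → e ∉ M₀ →
      T ≤ normalizer (L : Set G) →
      (∀ g : G, (∀ t ∈ T, g⁻¹ * t * g ∈ normalizer (L : Set G)) →
        g⁻¹ * e * g ∈ normalizer (L : Set G) → g⁻¹ * e * g ∉ M₀ → g ∈ normalizer (L : Set G)) →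
      f e = -1 := by
  obtain ⟨M, hM⟩ : ∃ M, M = normalizer (L : Set G) := ⟨_, rfl⟩
  unfold Par at hmul
  rw [← hM] at hmul ⊢
  have hinv : ∀ m ∈ M, (m⁻¹ ∈ M₀ ↔ m ∈ M₀) := fun m _ => inv_mem_iff
  have hcj : ∀ m ∈ M, ∀ y ∈ M, (m⁻¹ * y * m ∈ M₀ ↔ y ∈ M₀) := by
    intro m hm y hy
    rw [hmul _ (mul_mem (inv_mem hm) hy) _ hm, hmul _ (inv_mem hm) _ hy, hinv m hm]
    tauto
  let ev : G ⧸ M → G → Prop := fun ω g => ω.out⁻¹ * g * ω.out ∈ M₀
  have hst : ∀ (ω : G ⧸ M) (g : G), g • ω = ω ↔ ω.out⁻¹ * g * ω.out ∈ M := by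
    intro ω g
    have h1 : (ω.out : G ⧸ M) = ω := Quotient.out_eq' ω
    constructor
    · intro h
      have h2 : ((g * ω.out : G) : G ⧸ M) = (ω.out : G ⧸ M) := by
        calc ((g * ω.out : G) : G ⧸ M) = g • ((ω.out : G) : G ⧸ M) := rfl
          _ = g • ω := by rw [h1]
          _ = ω := h
          _ = (ω.out : G ⧸ M) := h1.symm
      rw [eq_comm, QuotientGroup.eq] at h2
      rwa [← mul_assoc] at h2
    · intro h
      have h2 : ((ω.out : G) : G ⧸ M) = ((g * ω.out : G) : G ⧸ M) := by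
        rw [QuotientGroup.eq, ← mul_assoc]
        exact h
      calc g • ω = g • ((ω.out : G) : G ⧸ M) := by rw [h1]
        _ = ((g * ω.out : G) : G ⧸ M) := rfl
        _ = ((ω.out : G) : G ⧸ M) := h2.symm
        _ = ω := h1
  have hpar : Parity.IsParity (Ω := G ⧸ M) ev := by
    constructor
    · intro ω g h hg hh
      have h1 : ω.out⁻¹ * (g * h) * ω.out = (ω.out⁻¹ * g * ω.out) * (ω.out⁻¹ * h * ω.out) := by
        group
      change ω.out⁻¹ * (g * h) * ω.out ∈ M₀ ↔ _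
      rw [h1]
      exact hmul _ ((hst ω g).mp hg) _ ((hst ω h).mp hh)
    · intro ω g h hh
      have h1 : (((g • ω).out : G) : G ⧸ M) = ((g * ω.out : G) : G ⧸ M) := by
        have h2 : ((g • ω).out : G ⧸ M) = g • ω := Quotient.out_eq' _
        have h3 : (ω.out : G ⧸ M) = ω := Quotient.out_eq' ω
        rw [h2]
        calc g • ω = g • ((ω.out : G) : G ⧸ M) := by rw [h3]
          _ = _ := rfl
      rw [eq_comm, QuotientGroup.eq] at h1
      obtain ⟨m, hm⟩ : ∃ m, m = (g * ω.out)⁻¹ * (g • ω).out := ⟨_, rfl⟩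
      rw [← hm] at h1
      have h4 : (g • ω).out = g * ω.out * m := by rw [hm]; group
      change (g • ω).out⁻¹ * (g * h * g⁻¹) * (g • ω).out ∈ M₀ ↔ ω.out⁻¹ * h * ω.out ∈ M₀
      have h5 : (g • ω).out⁻¹ * (g * h * g⁻¹) * (g • ω).out = m⁻¹ * (ω.out⁻¹ * h * ω.out) * m := by
        rw [h4]; group
      rw [h5]
      exact hcj m h1 _ ((hst ω h).mp hh)
  obtain ⟨f, hf⟩ := Parity.exists_hom_fixed hpar
  refine ⟨f, fun e T he hT hTe heM he0 hTM huniq => ?_⟩
  rw [hf e T he hT hTe]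
  have hbase : ∀ g : G, g ∈ M → g • ((1 : G) : G ⧸ M) = ((1 : G) : G ⧸ M) := by
    intro g hg
    have : g • ((1 : G) : G ⧸ M) = ((g * 1 : G) : G ⧸ M) := rfl
    rw [this, eq_comm, QuotientGroup.eq, inv_one, one_mul, mul_one]
    exact hg
  have hout : ((1 : G) : G ⧸ M).out ∈ M := by
    have h4 : ((((1 : G) : G ⧸ M).out : G) : G ⧸ M) = ((1 : G) : G ⧸ M) := Quotient.out_eq' _
    rw [eq_comm, QuotientGroup.eq, inv_one, one_mul] at h4
    exact h4
  have hcard : Nat.card {ω : G ⧸ M // (e • ω = ω ∧ ¬ ev ω e) ∧ ∀ t ∈ T, t • ω = ω} = 1 := by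
    rw [Nat.card_eq_one_iff_unique]
    refine ⟨⟨fun a b => Subtype.ext ?_⟩, ⟨⟨((1 : G) : G ⧸ M), ⟨hbase e heM, fun h =>
      he0 ((hcj _ hout e heM).mp h)⟩, fun t ht => hbase t (hTM ht)⟩⟩⟩
    have key : ∀ c : {ω : G ⧸ M // (e • ω = ω ∧ ¬ ev ω e) ∧ ∀ t ∈ T, t • ω = ω},
        c.1 = ((1 : G) : G ⧸ M) := by
      rintro ⟨c, ⟨hc1, hc2⟩, hc3⟩
      have h1 : c.out ∈ M := huniq c.out (fun t ht => (hst c t).mp (hc3 t ht)) ((hst c e).mp hc1) hc2
      have h3 : (c.out : G ⧸ M) = c := Quotient.out_eq' c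
      have h4 : ((1 : G) : G ⧸ M) = (c.out : G ⧸ M) := by
        rw [QuotientGroup.eq, inv_one, one_mul]
        exact h1
      exact (h4.trans h3).symm
    rw [key a, key b]
  rw [hcard, pow_one]

/-- **Theorem E, `x ∈ X`**: `G` without subgroups of index 2, `M₀` a character of `N(L)`; involutions outside
`M₀` are outer diagonal. -/
theorem Hyp.false_of_noSign [Finite G] {L : Subgroup G} {x : G} (H : Hyp L x)
    (hG : ∀ f : G →* ℤˣ, f x = 1) {M₀ : Subgroup G} (hmul : Par L M₀) (hx : x ∉ M₀)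
    (hodd : ∀ e ∈ normalizer (L : Set G), e * e = 1 → e ∉ M₀ →
      ∃ l ∈ L, l * e * l⁻¹ * x ∈ centralizer (L : Set G)) : False := by
  obtain ⟨f, hf⟩ := exists_sign hmul
  have h1 := hf x ⊥ H.xx IsPGroup.of_bot bot_le H.xM hx bot_le (fun g _ hgM hg0 => by
    by_contra hg
    obtain ⟨l, hl, h⟩ := hodd _ hgM (by
      calc g⁻¹ * x * g * (g⁻¹ * x * g) = g⁻¹ * (x * x) * g := by group
        _ = 1 := by rw [H.xx]; group) hg0
    refine H.fix3 (g := g * l⁻¹) (fun h1 => hg ?_) ?_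
    · have h2 : g = g * l⁻¹ * l := by group
      rw [h2]
      exact mul_mem h1 (L_le_M hl)
    · have h2 : (g * l⁻¹)⁻¹ * x * (g * l⁻¹) * x = l * (g⁻¹ * x * g) * l⁻¹ * x := by group
      rw [h2]
      exact h)
  rw [hG f] at h1
  exact absurd h1 (by decide)

/-- **(TR+)** (helper75): if `x ∉ X` normalizes only one conjugate of `L`, an involution of `C_X(x)` is even for
every `±1`-character of `N(L)`. -/
theorem mem_of_fix [Finite G] {L X : Subgroup G} {x : G} (hxx : x * x = 1)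
    (hxM : x ∈ normalizer (L : Set G)) (hCx : ∀ c, c * x = x * c → c ∈ normalizer (L : Set G))
    (fix : ∀ g : G, g⁻¹ * x * g ∈ normalizer (L : Set G) → g ∈ normalizer (L : Set G))
    (hX : ∀ f : G →* ℤˣ, ∀ g ∈ X, f g = 1) {M₀ : Subgroup G} (hmul : Par L M₀)
    {e : G} (heX : e ∈ X) (hee : e * e = 1) (hex : e * x = x * e) : e ∈ M₀ := by
  by_contra he0
  obtain ⟨f, hf⟩ := exists_sign hmul
  have hT : IsPGroup 2 (zpowers x) := by
    rintro ⟨z, hz⟩
    obtain ⟨n, rfl⟩ := mem_zpowers_iff.mp hz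
    refine ⟨1, ?_⟩
    apply Subtype.ext
    change (x ^ n) ^ 2 ^ 1 = 1
    rw [pow_one, pow_two, ← zpow_add, ← two_mul, zpow_mul]
    have : x ^ (2 : ℤ) = 1 := by rw [zpow_two]; exact hxx
    rw [this, one_zpow]
  have h1 := hf e (zpowers x) hee hT (zpowers_le.mpr (mem_centralizer_singleton_iff.mpr hex.symm))
    (hCx e hex) he0 (zpowers_le.mpr hxM) (fun g hg _ _ => fix g (hg x (mem_zpowers x)))
  rw [hX f e heX] at h1
  exact absurd h1 (by decide)

end Cfsg.Agent.UGT.ThE.Base
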