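import Cfsg.Agent.UGT.ThE.Base

/-!
# Theorem E, II: `x ^ g ∈ M → g ∈ M`

`Hyp L x`: moreover every `t` commutes with another one and `M / K` looks like a subgroup of `PΓL₂(q)`
containing `PGL₂(q)` (field automorphisms are allowed, see `Fld` and the last case of `cens`). Main results
`Hyp.fix3` (if `x` acts on `L₁` as an outer diagonal automorphism, then `L₁ = L`), `Hyp.fix`.
-/

set_option autoImplicit false

open Subgroup

namespace Cfsg.Agent.UGT.ThE.Base

variable {G : Type*} [Group G]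

/-- elements of `C_K(x)` of order at most two -/
structure IsT1 (L : Subgroup G) (x t : G) : Prop where
  mem : t ∈ centralizer (L : Set G)
  comm : t * x = x * t
  sq : t * t = 1

theorem IsT.isT1 {L : Subgroup G} {x t : G} (h : IsT L x t) : IsT1 L x t := ⟨h.mem, h.comm, h.sq⟩

theorem IsT1.isT {L : Subgroup G} {x t : G} (h : IsT1 L x t) (ht : t ≠ 1) : IsT L x t :=
  ⟨h.mem, h.comm, h.sq, ht⟩

theorem IsT1.mul {L : Subgroup G} {x t u : G} (ht : IsT1 L x t) (hu : IsT1 L x u)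
    (h : t * u = u * t) : IsT1 L x (t * u) where
  mem := mul_mem ht.mem hu.mem
  comm := by
    calc t * u * x = t * (u * x) := by group
      _ = (t * x) * u := by rw [hu.comm]; group
      _ = x * (t * u) := by rw [ht.comm]; group
  sq := by
    calc t * u * (t * u) = t * (u * t) * u := by group
      _ = (t * t) * (u * u) := by rw [← h]; group
      _ = 1 := by rw [ht.sq, hu.sq, one_mul]

theorem ker_iff {L : Subgroup G} (m : normalizer (L : Set G)) :
    L.normalizerMonoidHom m = 1 ↔ (m : G) ∈ centralizer (L : Set G) := by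
  rw [← MonoidHom.mem_ker, normalizerMonoidHom_ker, mem_subgroupOf]

theorem aux_comm {A : Type*} [Group A] {a b X s₁ s₂ : A} (hX : X * X = 1) (h1 : s₁ * s₁ = 1)
    (h2 : s₂ * s₂ = 1) (c1 : s₁ * X = X * s₁) (c2 : s₂ * X = X * s₂) (hab : a * b = b * a)
    (ha : a = s₁ ∨ a = s₁ * X) (hb : b = s₂ ∨ b = s₂ * X) : s₁ * s₂ = s₂ * s₁ := by
  rcases ha with rfl | rfl <;> rcases hb with rfl | rfl
  · exact hab
  · apply mul_right_cancel (b := X)
    calc a * s₂ * X = a * (s₂ * X) := by group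
      _ = s₂ * (X * a) := by rw [hab]; group
      _ = s₂ * a * X := by rw [← c1]; group
  · apply mul_right_cancel (b := X)
    calc s₁ * b * X = s₁ * (b * X) := by group
      _ = s₁ * X * b := by rw [c2]; group
      _ = b * (s₁ * X) := by rw [hab]
      _ = b * s₁ * X := by group
  · calc s₁ * s₂ = s₁ * (X * X) * s₂ := by rw [hX]; group
      _ = s₁ * X * (s₂ * X) := by rw [c2]; group
      _ = s₂ * (X * s₁) * X := by rw [hab]; group
      _ = s₂ * s₁ * (X * X) := by rw [← c1]; group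
      _ = s₂ * s₁ := by rw [hX, mul_one]

theorem exists_sqrt [Finite G] {k : G} (h : Odd (orderOf k)) : ∃ j, j * j = k ∧ j ∈ zpowers k := by
  obtain ⟨n, hn⟩ := h
  refine ⟨k ^ (n + 1), ?_, pow_mem (mem_zpowers k) _⟩
  rw [← pow_add]
  have : n + 1 + (n + 1) = orderOf k + 1 := by omega
  rw [this, pow_succ, pow_orderOf_eq_one, one_mul]

/-- `A ≤ L` dies in `C(x) / K`: whenever `gAg⁻¹ ≤ M` commutes with `x` modulo `K`, it lies in `K` -/
def Dies (L : Subgroup G) (x : G) (A : Subgroup G) : Prop :=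
  ∀ g : G, (∀ a ∈ A, g * a * g⁻¹ ∈ normalizer (L : Set G)) →
    (∀ a ∈ A, (g * a * g⁻¹) * x * (g * a * g⁻¹)⁻¹ * x⁻¹ ∈ centralizer (L : Set G)) →
    ∀ a ∈ A, g * a * g⁻¹ ∈ centralizer (L : Set G)

/-- `e` acts on `L` as a field automorphism: `L` is generated by subgroups `A ≤ C(e)` and `B ≤ C(ev)`, `v` an
involution of `A`, which die in `C(x) / K`. -/
structure Fld (L : Subgroup G) (x e v : G) (A B : Subgroup G) : Prop where
  vA : v ∈ A
  vv : v * v = 1
  v1 : v ≠ 1
  cA : ∀ a ∈ A, a * e = e * a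
  cB : ∀ b ∈ B, b * (e * v) = (e * v) * b
  gen : ∀ N : Subgroup G, A ≤ N → B ≤ N → L ≤ N
  dA : Dies L x A
  dB : Dies L x B

/-- The hypotheses of Theorem E, first part. -/
structure Hyp (L : Subgroup G) (x : G) : Prop extends Pre L x where
  four : ∃ t, IsT L x t
  rk : ∀ t, IsT L x t → ∃ u, IsT L x u ∧ u ≠ t ∧ u * t = t * u
  badT : ∀ g : G, ¬ IsT L x (g⁻¹ * x * g)
  badTt : ∀ t, IsT L x t → ∀ g : G, ¬ IsT L x (g⁻¹ * (x * t) * g)
  cenx : ∀ e ∈ normalizer (L : Set G), e * e = 1 →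
    e * x * e⁻¹ * x⁻¹ ∈ centralizer (L : Set G) →
    e ∈ centralizer (L : Set G) ∨ e * x ∈ centralizer (L : Set G) ∨
      ∃ s, IsS L x s ∧ (e * s ∈ centralizer (L : Set G) ∨ e * x * s ∈ centralizer (L : Set G))
  comm : ∀ s s', IsS L x s → IsS L x s' → s * s' = s' * s → s = s'
  conjS : ∀ s, IsS L x s → ∃ l ∈ L, l * (x * s) * l⁻¹ = x
  inv : ∀ e ∈ normalizer (L : Set G), e * e = 1 → e ∈ centralizer (L : Set G) ∨
    (∃ s ∈ L, s * s = 1 ∧ e * s ∈ centralizer (L : Set G)) ∨
      (∃ l ∈ L, l * e * l⁻¹ * x ∈ centralizer (L : Set G)) ∨ ∃ v A B, Fld L x e v A B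
  cens : ∀ s, IsS L x s → ∀ f₁ ∈ normalizer (L : Set G), ∀ f₂ ∈ normalizer (L : Set G),
    f₁ * f₁ = 1 → f₂ * f₂ = 1 → f₁ * f₂ = f₂ * f₁ → f₁ * s = s * f₁ → f₂ * s = s * f₂ →
    f₁ ∉ centralizer (L : Set G) → f₂ ∉ centralizer (L : Set G) → f₁ * f₂ ∉ centralizer (L : Set G) →
    f₁ * s ∈ centralizer (L : Set G) ∨ f₂ * s ∈ centralizer (L : Set G) ∨
      f₁ * f₂ * s ∈ centralizer (L : Set G) ∨
        ∀ N : Subgroup G, (∀ l ∈ L, (l * f₁ = f₁ * l ∨ l * f₂ = f₂ * l ∨
          l * (f₁ * f₂) = (f₁ * f₂) * l) → l ∈ N) → L ≤ N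

namespace Hyp

variable {L : Subgroup G} {x : G} (H : Hyp L x)
include H

theorem cls {e : G} (he : e * x = x * e) (hee : e * e = 1) (h1 : e ≠ 1) :
    IsT L x e ∨ (∃ t, IsT1 L x t ∧ e = x * t) ∨
      (∃ s, IsS L x s ∧ ∃ t, IsT1 L x t ∧ e = s * t) ∨
        ∃ s, IsS L x s ∧ ∃ t, IsT1 L x t ∧ e = x * s * t := by
  have heM := H.Cx e he
  rcases H.cenx e heM hee (by
    have : e * x * e⁻¹ * x⁻¹ = 1 := by rw [he]; group
    rw [this]; exact one_mem _) with h | h | ⟨s, hs, h | h⟩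
  · exact Or.inl ⟨h, he, hee, h1⟩
  · refine Or.inr (Or.inl ⟨e * x, ⟨h, ?_, ?_⟩, ?_⟩)
    · rw [he]; rw [mul_assoc, he]
    · calc e * x * (e * x) = e * (x * e) * x := by group
        _ = (e * e) * (x * x) := by rw [← he]; group
        _ = 1 := by rw [hee, H.xx, one_mul]
    · rw [he, ← mul_assoc, H.xx, one_mul]
  · have c1 : s * (e * s) = e * s * s := comm_of_mem hs.mem h
    have c2 : s * e = e * s := by
      have : s * (e * s) = s * e * s := by group
      rw [this] at c1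
      exact mul_right_cancel c1
    refine Or.inr (Or.inr (Or.inl ⟨s, hs, e * s, ⟨h, ?_, ?_⟩, ?_⟩))
    · calc e * s * x = e * (s * x) := by group
        _ = (e * x) * s := by rw [hs.comm]; group
        _ = x * (e * s) := by rw [he]; group
    · calc e * s * (e * s) = e * (s * e) * s := by group
        _ = (e * e) * (s * s) := by rw [c2]; group
        _ = 1 := by rw [hee, hs.sq, one_mul]
    · rw [← c2, ← mul_assoc, hs.sq, one_mul]
  · have c1 : s * (e * x * s) = e * x * s * s := comm_of_mem hs.mem h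
    have c3 : s * (e * x) = e * x * s := by
      have : s * (e * x * s) = s * (e * x) * s := by group
      rw [this] at c1
      exact mul_right_cancel c1
    have c2 : s * e = e * s := by
      apply mul_right_cancel (b := x)
      calc s * e * x = s * (e * x) := by group
        _ = e * (x * s) := by rw [c3]; group
        _ = e * s * x := by rw [← hs.comm]; group
    refine Or.inr (Or.inr (Or.inr ⟨s, hs, e * x * s, ⟨h, ?_, ?_⟩, ?_⟩))
    · calc e * x * s * x = e * x * (s * x) := by group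
        _ = (e * x) * x * s := by rw [hs.comm]; group
        _ = (x * e) * x * s := by rw [he]
        _ = x * (e * x * s) := by group
    · calc e * x * s * (e * x * s) = e * x * (s * (e * x)) * s := by group
        _ = e * (x * e) * x * (s * s) := by rw [c3]; group
        _ = (e * e) * (x * x) * (s * s) := by rw [← he]; group
        _ = 1 := by rw [hee, hs.sq, H.xx]; group
    · calc e = e * (x * x) * (s * s) := by rw [H.xx, hs.sq]; group
        _ = (e * x) * (x * s) * s := by group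
        _ = (e * x) * (s * x) * s := by rw [hs.comm]
        _ = s * (e * x) * x * s := by rw [c3]; group
        _ = s * (x * e) * x * s := by rw [he]
        _ = (s * x) * (e * x * s) := by group
        _ = x * s * (e * x * s) := by rw [hs.comm]

theorem Cxt1 {t : G} (ht : IsT1 L x t) {c : G} (hc : c * (x * t) = (x * t) * c) :
    c ∈ normalizer (L : Set G) := by
  by_cases h : t = 1
  · rw [h, mul_one] at hc
    exact H.Cx c hc
  · exact H.Cxt t (ht.isT h) c hc

theorem badT1 {t : G} (ht : IsT1 L x t) (g : G) : ¬ IsT L x (g⁻¹ * (x * t) * g) := by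
  by_cases h : t = 1
  · rw [h, mul_one]
    exact H.badT g
  · exact H.badTt t (ht.isT h) g

theorem conjST {s t : G} (hs : IsS L x s) (ht : IsT1 L x t) :
    ∃ l ∈ L, l * (x * s * t) * l⁻¹ = x * t := by
  obtain ⟨l, hl, h⟩ := H.conjS s hs
  refine ⟨l, hl, ?_⟩
  have h1 := comm_of_mem (inv_mem hl) ht.mem
  calc l * (x * s * t) * l⁻¹ = l * (x * s) * (t * l⁻¹) := by group
    _ = l * (x * s) * l⁻¹ * t := by rw [← h1]; group
    _ = x * t := by rw [h]

theorem Cxst {s t : G} (hs : IsS L x s) (ht : IsT1 L x t) {c : G}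
    (hc : c * (x * s * t) = (x * s * t) * c) : c ∈ normalizer (L : Set G) := by
  obtain ⟨l, hl, h⟩ := H.conjST hs ht
  have h1 : (l * c * l⁻¹) * (x * t) = (x * t) * (l * c * l⁻¹) := by
    rw [← h]
    calc (l * c * l⁻¹) * (l * (x * s * t) * l⁻¹) = l * (c * (x * s * t)) * l⁻¹ := by group
      _ = l * ((x * s * t) * c) * l⁻¹ := by rw [hc]
      _ = _ := by group
  have h2 := H.Cxt1 ht h1
  have h3 : c = l⁻¹ * (l * c * l⁻¹) * l := by group
  rw [h3]
  exact mul_mem (mul_mem (inv_mem (L_le_M hl)) h2) (L_le_M hl)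

theorem not_xs {s : G} (hs : s ∈ L) {t : G} (ht : t ∈ centralizer (L : Set G)) :
    x * s * t ∉ centralizer (L : Set G) := fun h => H.xLK s hs (by
  have : x * s = x * s * t * t⁻¹ := by group
  rw [this]
  exact mul_mem h (inv_mem ht))

/-- a four-group of `M / K` centralizing `x` contains `x` -/
theorem four_x {e₁ e₂ : G} (h1 : e₁ ∈ normalizer (L : Set G)) (h2 : e₂ ∈ normalizer (L : Set G))
    (q1 : e₁ * e₁ = 1) (q2 : e₂ * e₂ = 1) (q : e₁ * e₂ = e₂ * e₁)
    (c1 : e₁ * x * e₁⁻¹ * x⁻¹ ∈ centralizer (L : Set G))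
    (c2 : e₂ * x * e₂⁻¹ * x⁻¹ ∈ centralizer (L : Set G))
    (n1 : e₁ ∉ centralizer (L : Set G)) (n2 : e₂ ∉ centralizer (L : Set G))
    (n12 : e₁ * e₂ ∉ centralizer (L : Set G)) :
    e₁ * x ∈ centralizer (L : Set G) ∨ e₂ * x ∈ centralizer (L : Set G) ∨
      e₁ * e₂ * x ∈ centralizer (L : Set G) := by
  rcases H.cenx e₁ h1 q1 c1 with h | h | ⟨s₁, hs₁, h⟩
  · exact absurd h n1
  · exact Or.inl h
  rcases H.cenx e₂ h2 q2 c2 with h' | h' | ⟨s₂, hs₂, h'⟩
  · exact absurd h' n2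
  · exact Or.inr (Or.inl h')
  obtain ⟨φ, hφ⟩ : ∃ φ, φ = L.normalizerMonoidHom := ⟨_, rfl⟩
  have hker : ∀ m : normalizer (L : Set G), φ m = 1 ↔ (m : G) ∈ centralizer (L : Set G) := by
    rw [hφ]; exact ker_iff
  obtain ⟨X, hX⟩ : ∃ X : normalizer (L : Set G), X = ⟨x, H.xM⟩ := ⟨_, rfl⟩
  obtain ⟨a, ha⟩ : ∃ a : normalizer (L : Set G), a = ⟨e₁, h1⟩ := ⟨_, rfl⟩
  obtain ⟨b, hb⟩ : ∃ b : normalizer (L : Set G), b = ⟨e₂, h2⟩ := ⟨_, rfl⟩
  obtain ⟨u, hu⟩ : ∃ u : normalizer (L : Set G), u = ⟨s₁, L_le_M hs₁.mem⟩ := ⟨_, rfl⟩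
  obtain ⟨v, hv⟩ : ∃ v : normalizer (L : Set G), v = ⟨s₂, L_le_M hs₂.mem⟩ := ⟨_, rfl⟩
  have eXX : X * X = 1 := by rw [hX]; exact Subtype.ext H.xx
  have euu : u * u = 1 := by rw [hu]; exact Subtype.ext hs₁.sq
  have evv : v * v = 1 := by rw [hv]; exact Subtype.ext hs₂.sq
  have euX : u * X = X * u := by rw [hu, hX]; exact Subtype.ext hs₁.comm
  have evX : v * X = X * v := by rw [hv, hX]; exact Subtype.ext hs₂.comm
  have eab : a * b = b * a := by rw [ha, hb]; exact Subtype.ext q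
  have fa : φ a = φ u ∨ φ a = φ u * φ X := by
    rcases h with h | h
    · left
      have h3 : φ (a * u) = 1 := (hker _).mpr (by rw [ha, hu]; exact h)
      rw [map_mul] at h3
      rw [eq_inv_of_mul_eq_one_left h3, ← map_inv, inv_eq_of_mul_eq_one_left euu]
    · right
      have h3 : φ (a * X * u) = 1 := (hker _).mpr (by rw [ha, hu, hX]; exact h)
      rw [map_mul, map_mul, mul_assoc] at h3
      rw [eq_inv_of_mul_eq_one_left h3, mul_inv_rev, ← map_inv, ← map_inv,
        inv_eq_of_mul_eq_one_left euu, inv_eq_of_mul_eq_one_left eXX]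
  have fb : φ b = φ v ∨ φ b = φ v * φ X := by
    rcases h' with h' | h'
    · left
      have h3 : φ (b * v) = 1 := (hker _).mpr (by rw [hb, hv]; exact h')
      rw [map_mul] at h3
      rw [eq_inv_of_mul_eq_one_left h3, ← map_inv, inv_eq_of_mul_eq_one_left evv]
    · right
      have h3 : φ (b * X * v) = 1 := (hker _).mpr (by rw [hb, hv, hX]; exact h')
      rw [map_mul, map_mul, mul_assoc] at h3
      rw [eq_inv_of_mul_eq_one_left h3, mul_inv_rev, ← map_inv, ← map_inv,
        inv_eq_of_mul_eq_one_left evv, inv_eq_of_mul_eq_one_left eXX]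
  have h3 : φ u * φ v = φ v * φ u := by
    refine aux_comm (X := φ X) ?_ ?_ ?_ ?_ ?_ ?_ fa fb
    · rw [← map_mul, eXX, map_one]
    · rw [← map_mul, euu, map_one]
    · rw [← map_mul, evv, map_one]
    · rw [← map_mul, euX, map_mul]
    · rw [← map_mul, evX, map_mul]
    · rw [← map_mul, eab, map_mul]
  have h4 : s₁ * s₂ = s₂ * s₁ := by
    have h5 : φ (u * v * (v * u)⁻¹) = 1 := by
      rw [map_mul, map_inv, map_mul, map_mul, h3, mul_inv_cancel]
    have h6 := (hker _).mp h5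
    rw [hu, hv] at h6
    have h7 : s₁ * s₂ * (s₂ * s₁)⁻¹ = 1 := H.disj
      (mul_mem (mul_mem hs₁.mem hs₂.mem) (inv_mem (mul_mem hs₂.mem hs₁.mem))) h6
    exact mul_inv_eq_one.mp h7
  have h5 := H.comm s₁ s₂ hs₁ hs₂ h4
  have huv : u = v := by rw [hu, hv]; exact Subtype.ext h5
  rw [← huv] at fb
  rcases fa with fa | fa <;> rcases fb with fb | fb
  · exfalso
    apply n12
    have : φ (a * b) = 1 := by rw [map_mul, fa, fb, ← map_mul, euu, map_one]
    have := (hker _).mp this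
    rwa [ha, hb] at this
  · right; right
    have : φ (a * b * X) = 1 := by
      rw [map_mul, map_mul, fa, fb, ← map_mul, ← map_mul, ← map_mul]
      have : u * (u * X) * X = 1 := by
        calc u * (u * X) * X = (u * u) * (X * X) := by group
          _ = 1 := by rw [euu, eXX, one_mul]
      rw [this, map_one]
    have := (hker _).mp this
    rwa [ha, hb, hX] at this
  · right; right
    have : φ (a * b * X) = 1 := by
      rw [map_mul, map_mul, fa, fb, ← map_mul, ← map_mul, ← map_mul]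
      have : u * X * u * X = 1 := by
        calc u * X * u * X = u * (X * u) * X := by group
          _ = (u * u) * (X * X) := by rw [← euX]; group
          _ = 1 := by rw [euu, eXX, one_mul]
      rw [this, map_one]
    have := (hker _).mp this
    rwa [ha, hb, hX] at this
  · exfalso
    apply n12
    have : φ (a * b) = 1 := by
      rw [map_mul, fa, fb, ← map_mul, ← map_mul]
      have : u * X * (u * X) = 1 := by
        calc u * X * (u * X) = u * (X * u) * X := by group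
          _ = (u * u) * (X * X) := by rw [← euX]; group
          _ = 1 := by rw [euu, eXX, one_mul]
      rw [this, map_one]
    have := (hker _).mp this
    rwa [ha, hb] at this

/-- pairs of commuting `t`'s commuting with `s t₁` -/
theorem exists_pair {s t₁ : G} (hs : IsS L x s) (ht₁ : IsT1 L x t₁) :
    ∃ f₁ f₂, IsT L x f₁ ∧ IsT L x f₂ ∧ IsT L x (f₁ * f₂) ∧ f₁ * f₂ = f₂ * f₁ ∧
      f₁ * (s * t₁) = s * t₁ * f₁ ∧ f₂ * (s * t₁) = s * t₁ * f₂ := by
  have key : ∀ f, IsT L x f → f * t₁ = t₁ * f → f * (s * t₁) = s * t₁ * f := by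
    intro f hf h
    have h1 := comm_of_mem hs.mem hf.mem
    calc f * (s * t₁) = (f * s) * t₁ := by group
      _ = s * (f * t₁) := by rw [← h1]; group
      _ = s * t₁ * f := by rw [h]; group
  have hmul : ∀ f₁ f₂, IsT L x f₁ → IsT L x f₂ → f₂ ≠ f₁ → f₂ * f₁ = f₁ * f₂ → IsT L x (f₁ * f₂) := by
    intro f₁ f₂ h1 h2 hne h
    refine (h1.isT1.mul h2.isT1 h.symm).isT ?_
    intro h3
    apply hne
    have h4 := eq_inv_of_mul_eq_one_right h3
    rw [h4]
    exact inv_eq_of_mul_eq_one_left h1.sq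
  by_cases h : t₁ = 1
  · obtain ⟨t, ht⟩ := H.four
    obtain ⟨u, hu, hut, hc⟩ := H.rk t ht
    exact ⟨t, u, ht, hu, hmul t u ht hu hut hc, hc.symm, key t ht (by rw [h]; group),
      key u hu (by rw [h]; group)⟩
  · have ht := ht₁.isT h
    obtain ⟨u, hu, hut, hc⟩ := H.rk t₁ ht
    exact ⟨t₁, u, ht, hu, hmul t₁ u ht hu hut hc, hc.symm, key t₁ ht rfl, key u hu hc⟩

/-- (E1)(iii), the main step -/
theorem fix3 [Finite G] {g : G} (hg : g ∉ normalizer (L : Set G))
    (hk : g⁻¹ * x * g * x ∈ centralizer (L : Set G)) : False := by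
  obtain ⟨y, hy⟩ : ∃ y, y = g⁻¹ * x * g := ⟨_, rfl⟩
  obtain ⟨k, hkd⟩ : ∃ k, k = y * x := ⟨_, rfl⟩
  have hyy : y * y = 1 := by
    rw [hy]
    calc g⁻¹ * x * g * (g⁻¹ * x * g) = g⁻¹ * (x * x) * g := by group
      _ = 1 := by rw [H.xx]; group
  have hkK : k ∈ centralizer (L : Set G) := by rw [hkd, hy]; exact hk
  have hykx : y = k * x := by
    rw [hkd, mul_assoc, H.xx, mul_one]
  have hxk : x * k * x⁻¹ = k⁻¹ := by
    rw [hkd, mul_inv_rev, inv_eq_of_mul_eq_one_left hyy, H.xi]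
    calc x * (y * x) * x = x * y * (x * x) := by group
      _ = x * y := by rw [H.xx, mul_one]
  have hxz : ∀ j ∈ zpowers k, x * j * x⁻¹ = j⁻¹ := by
    intro j hj
    obtain ⟨n, rfl⟩ := mem_zpowers_iff.mp hj
    rw [← conj_zpow, hxk, inv_zpow]
  have hzK : ∀ j ∈ zpowers k, j ∈ centralizer (L : Set G) := fun j hj =>
    (zpowers_le.mpr hkK) hj
  rcases Nat.even_or_odd (orderOf k) with hev | hodd
  · obtain ⟨n, hn⟩ := hev
    have hnpos : 0 < n := by
      have := orderOf_pos k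
      omega
    obtain ⟨t, htd⟩ : ∃ t, t = k ^ n := ⟨_, rfl⟩
    have htz : t ∈ zpowers k := htd ▸ pow_mem (mem_zpowers k) n
    have htt : t * t = 1 := by rw [htd, ← pow_add, ← hn, pow_orderOf_eq_one]
    have ht1 : t ≠ 1 := by
      rw [htd]
      intro h
      have := orderOf_le_of_pow_eq_one hnpos h
      omega
    have htx : t * x = x * t := by
      have h1 := hxz t htz
      rw [inv_eq_of_mul_eq_one_left htt] at h1
      calc t * x = (x * t * x⁻¹) * x := by rw [h1]
        _ = x * t := by group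
    have htT : IsT L x t := ⟨hzK t htz, htx, htt, ht1⟩
    have hty : t * y = y * t := by
      have h1 : t * k = k * t := by
        rw [htd]; exact ((Commute.refl k).pow_left n)
      rw [hykx]
      calc t * (k * x) = (t * k) * x := by group
        _ = k * (t * x) := by rw [h1]; group
        _ = k * x * t := by rw [htx]; group
    obtain ⟨v, hv⟩ : ∃ v, v = g * t * g⁻¹ := ⟨_, rfl⟩
    have hvt : g⁻¹ * v * g = t := by rw [hv]; group
    have hvx : v * x = x * v := by
      rw [hv]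
      have e1 : x = g * y * g⁻¹ := by rw [hy]; group
      calc g * t * g⁻¹ * x = g * t * g⁻¹ * (g * y * g⁻¹) := by rw [← e1]
        _ = g * (t * y) * g⁻¹ := by group
        _ = g * (y * t) * g⁻¹ := by rw [hty]
        _ = (g * y * g⁻¹) * (g * t * g⁻¹) := by group
        _ = x * (g * t * g⁻¹) := by rw [← e1]
    have hvv : v * v = 1 := by
      rw [hv]
      calc g * t * g⁻¹ * (g * t * g⁻¹) = g * (t * t) * g⁻¹ := by group
        _ = 1 := by rw [htt]; group
    have hv1 : v ≠ 1 := by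
      intro h
      apply ht1
      rw [← hvt, h]; group
    rcases H.cls hvx hvv hv1 with h | ⟨t₁, ht₁, h⟩ | ⟨s, hs, t₁, ht₁, h⟩ | ⟨s, hs, t₁, ht₁, h⟩
    · exact hg (H.fixT h (by rw [hvt]; exact htT.mem))
    · exact H.badT1 ht₁ g (by rw [← h, hvt]; exact htT)
    · obtain ⟨f₁, f₂, hf₁, hf₂, hf, hc, hd₁, hd₂⟩ := H.exists_pair hs ht₁
      rw [← h] at hd₁ hd₂
      have hM : ∀ f, f * v = v * f → g⁻¹ * f * g ∈ normalizer (L : Set G) := by
        intro f hfv
        apply H.Ct t htT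
        calc g⁻¹ * f * g * t = g⁻¹ * (f * v) * g := by rw [← hvt]; group
          _ = g⁻¹ * (v * f) * g := by rw [hfv]
          _ = t * (g⁻¹ * f * g) := by rw [← hvt]; group
      have hnK : ∀ f, IsT L x f → g⁻¹ * f * g ∉ centralizer (L : Set G) :=
        fun f hf h1 => hg (H.fixT hf h1)
      have hcx : ∀ f, IsT L x f →
          (g⁻¹ * f * g) * x * (g⁻¹ * f * g)⁻¹ * x⁻¹ ∈ centralizer (L : Set G) ∨
            g⁻¹ * f * g ∉ normalizer (L : Set G) := by
        intro f hf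
        by_cases h1 : g⁻¹ * f * g ∈ normalizer (L : Set G)
        · left
          obtain ⟨e, he⟩ : ∃ e, e = g⁻¹ * f * g := ⟨_, rfl⟩
          rw [← he] at h1 ⊢
          have h2 : e * y = y * e := by
            rw [he, hy]
            calc g⁻¹ * f * g * (g⁻¹ * x * g) = g⁻¹ * (f * x) * g := by group
              _ = g⁻¹ * (x * f) * g := by rw [hf.comm]
              _ = _ := by group
          have h3 : e * x * e⁻¹ * x⁻¹ = (e * k⁻¹ * e⁻¹) * k := by
            have h4 : x = k⁻¹ * y := by rw [hykx]; group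
            calc e * x * e⁻¹ * x⁻¹ = e * (k⁻¹ * y) * e⁻¹ * x⁻¹ := by rw [← h4]
              _ = e * k⁻¹ * (y * e⁻¹) * x⁻¹ := by group
              _ = e * k⁻¹ * (e⁻¹ * y) * x⁻¹ := by
                have h5 : y * e⁻¹ = e⁻¹ * y := by
                  calc y * e⁻¹ = e⁻¹ * (e * y) * e⁻¹ := by group
                    _ = e⁻¹ * (y * e) * e⁻¹ := by rw [h2]
                    _ = e⁻¹ * y := by group
                rw [h5]
              _ = (e * k⁻¹ * e⁻¹) * (k * x) * x⁻¹ := by rw [hykx]; group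
              _ = _ := by group
          rw [h3]
          exact mul_mem (K_conj h1 (inv_mem hkK)) hkK
        · exact Or.inr h1
      have hw : ∃ w, IsT L x w ∧ g⁻¹ * w * g ∈ normalizer (L : Set G) ∧
          g⁻¹ * w * g * x ∈ centralizer (L : Set G) := by
        have m1 := hM f₁ hd₁
        have m2 := hM f₂ hd₂
        have sqc : ∀ f, IsT L x f → g⁻¹ * f * g * (g⁻¹ * f * g) = 1 := by
          intro f hf
          calc g⁻¹ * f * g * (g⁻¹ * f * g) = g⁻¹ * (f * f) * g := by group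
            _ = 1 := by rw [hf.sq]; group
        have e12 : g⁻¹ * f₁ * g * (g⁻¹ * f₂ * g) = g⁻¹ * (f₁ * f₂) * g := by group
        rcases H.four_x m1 m2 (sqc f₁ hf₁) (sqc f₂ hf₂) (by
            rw [e12, hc]; group) ((hcx f₁ hf₁).resolve_right (not_not_intro m1))
            ((hcx f₂ hf₂).resolve_right (not_not_intro m2)) (hnK f₁ hf₁) (hnK f₂ hf₂) (by
              rw [e12]; exact hnK _ hf) with h1 | h1 | h1
        · exact ⟨f₁, hf₁, m1, h1⟩
        · exact ⟨f₂, hf₂, m2, h1⟩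
        · exact ⟨f₁ * f₂, hf, by rw [← e12]; exact mul_mem m1 m2, by rw [← e12]; exact h1⟩
      obtain ⟨w, hw, hwM, hwx⟩ := hw
      obtain ⟨e, he⟩ : ∃ e, e = g⁻¹ * w * g := ⟨_, rfl⟩
      rw [← he] at hwM hwx
      have h5 : y * e ∈ centralizer (L : Set G) := by
        have h6 : y * e = k * (x * (e * x) * x⁻¹) := by
          rw [hykx]; group
        rw [h6]
        exact mul_mem hkK (K_conj H.xM hwx)
      have hL1 : ∀ l ∈ L, g * l * g⁻¹ ∈ normalizer (L : Set G) := by
        intro l hl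
        apply H.Cxt w hw
        have h6 := comm_of_mem hl h5
        have h7 : x * w = g * (y * e) * g⁻¹ := by rw [hy, he]; group
        rw [h7]
        calc g * l * g⁻¹ * (g * (y * e) * g⁻¹) = g * (l * (y * e)) * g⁻¹ := by group
          _ = g * ((y * e) * l) * g⁻¹ := by rw [h6]
          _ = _ := by group
      exact hnK w hw (H.z3 hL1 hw.mem (he ▸ hwM))
    · obtain ⟨l, hl, h1⟩ := H.conjST hs ht₁
      apply H.badT1 ht₁ (l * g)
      have h2 : (l * g)⁻¹ * (x * t₁) * (l * g) = t := by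
        rw [← h1, ← h, ← hvt]; group
      rw [h2]
      exact htT
  · obtain ⟨j, hj, hjz⟩ := exists_sqrt hodd
    have h1 := hxz j hjz
    have h2 : j * x * j⁻¹ = y := by
      have h3 : x * j⁻¹ * x⁻¹ = j := by
        have := hxz j⁻¹ (inv_mem hjz)
        rwa [inv_inv] at this
      calc j * x * j⁻¹ = j * (x * j⁻¹ * x⁻¹) * x := by group
        _ = j * j * x := by rw [h3]
        _ = y := by rw [hj, ← hykx]
    have h3 : (g * j) * x = x * (g * j) := by
      calc (g * j) * x = g * (j * x * j⁻¹) * j := by group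
        _ = g * (g⁻¹ * x * g) * j := by rw [h2, hy]
        _ = x * (g * j) := by group
    apply hg
    have h4 : g = (g * j) * j⁻¹ := by group
    rw [h4]
    exact mul_mem (H.Cx _ h3) (inv_mem (K_le_M (hzK j hjz)))

/-- **(E1)** `x` normalizes exactly one conjugate of `L`. -/
theorem fix [Finite G] (badL1 : ∀ t, IsT1 L x t → ∀ g : G, g⁻¹ * (x * t) * g ∉ L) {g : G}
    (hx : g⁻¹ * x * g ∈ normalizer (L : Set G)) :
    g ∈ normalizer (L : Set G) := by
  by_contra hg
  obtain ⟨y, hy⟩ : ∃ y, y = g⁻¹ * x * g := ⟨_, rfl⟩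
  rw [← hy] at hx
  have hyy : y * y = 1 := by
    rw [hy]
    calc g⁻¹ * x * g * (g⁻¹ * x * g) = g⁻¹ * (x * x) * g := by group
      _ = 1 := by rw [H.xx]; group
  have hx1 : x ∉ centralizer (L : Set G) := by
    have := H.xLK 1 (one_mem _)
    rwa [mul_one] at this
  have hcase : y ∉ centralizer (L : Set G) := by
    intro h
    have hL1 : ∀ l ∈ L, g * l * g⁻¹ ∈ normalizer (L : Set G) := by
      intro l hl
      apply H.Cx
      have h1 := comm_of_mem hl h
      calc g * l * g⁻¹ * x = g * (l * y) * g⁻¹ := by rw [hy]; group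
        _ = g * (y * l) * g⁻¹ := by rw [h1]
        _ = x * (g * l * g⁻¹) := by rw [hy]; group
    exact hx1 (H.z4 hL1 H.xM (hy ▸ h))
  rcases H.inv y hx hyy with h | ⟨s₀, hs₀, hss, h⟩ | ⟨l, hl, h⟩ | ⟨v, A, B, hF⟩
  · exact hcase h
  · have hs1 : s₀ ≠ 1 := by
      rintro rfl
      rw [mul_one] at h
      exact hcase h
    obtain ⟨s₁, hs₁⟩ : ∃ s₁, s₁ = g * s₀ * g⁻¹ := ⟨_, rfl⟩
    have hs₁0 : g⁻¹ * s₁ * g = s₀ := by rw [hs₁]; group
    have hcy : s₀ * y = y * s₀ := by
      have h1 : s₀ * (y * s₀) = y * s₀ * s₀ := comm_of_mem hs₀ h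
      have h2 : s₀ * (y * s₀) = s₀ * y * s₀ := by group
      rw [h2] at h1
      exact mul_right_cancel h1
    have hc : s₁ * x = x * s₁ := by
      rw [hs₁]
      have e1 : x = g * y * g⁻¹ := by rw [hy]; group
      calc g * s₀ * g⁻¹ * x = g * s₀ * g⁻¹ * (g * y * g⁻¹) := by rw [← e1]
        _ = g * (s₀ * y) * g⁻¹ := by group
        _ = g * (y * s₀) * g⁻¹ := by rw [hcy]
        _ = (g * y * g⁻¹) * (g * s₀ * g⁻¹) := by group
        _ = x * (g * s₀ * g⁻¹) := by rw [← e1]
    have hs11 : s₁ * s₁ = 1 := by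
      rw [hs₁]
      calc g * s₀ * g⁻¹ * (g * s₀ * g⁻¹) = g * (s₀ * s₀) * g⁻¹ := by group
        _ = 1 := by rw [hss]; group
    have hs₁1 : s₁ ≠ 1 := by
      intro h1
      apply hs1
      rw [← hs₁0, h1]; group
    have hcom : ∀ l ∈ L, (g * l * g⁻¹) * (x * s₁) = (x * s₁) * (g * l * g⁻¹) := by
      intro l hl
      have h1 := comm_of_mem hl h
      have h2 : x * s₁ = g * (y * s₀) * g⁻¹ := by rw [hs₁, hy]; group
      rw [h2]
      calc g * l * g⁻¹ * (g * (y * s₀) * g⁻¹) = g * (l * (y * s₀)) * g⁻¹ := by group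
        _ = g * (y * s₀ * l) * g⁻¹ := by rw [h1]
        _ = _ := by group
    rcases H.cls hc hs11 hs₁1 with h1 | ⟨t₁, ht₁, h1⟩ | ⟨s, hs, t₁, ht₁, h1⟩ | ⟨s, hs, t₁, ht₁, h1⟩
    · have hL1 : ∀ l ∈ L, g * l * g⁻¹ ∈ normalizer (L : Set G) := fun l hl =>
        H.Cxt s₁ h1 _ (hcom l hl)
      exact hs1 (H.z1 hL1 hs₀ (hs₁ ▸ h1.mem))
    · apply badL1 t₁ ht₁ g
      rw [← h1, hs₁0]; exact hs₀
    · have e1 : x * s₁ = x * s * t₁ := by rw [h1]; group
      have hL1 : ∀ l ∈ L, g * l * g⁻¹ ∈ normalizer (L : Set G) := fun l hl =>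
        H.Cxst hs ht₁ (by rw [← e1]; exact hcom l hl)
      have h2 : x * s₁ ∈ centralizer (L : Set G) := by
        apply H.z4 hL1
        · rw [e1]
          exact mul_mem (mul_mem H.xM (L_le_M hs.mem)) (K_le_M ht₁.mem)
        · have h3 : g⁻¹ * (x * s₁) * g = y * s₀ := by rw [hs₁, hy]; group
          rw [h3]; exact h
      rw [e1] at h2
      exact H.not_xs hs.mem ht₁.mem h2
    · obtain ⟨l, hl, h2⟩ := H.conjST hs ht₁
      apply badL1 t₁ ht₁ (l * g)
      have h3 : (l * g)⁻¹ * (x * t₁) * (l * g) = s₀ := by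
        rw [← h2, ← h1, ← hs₁0]; group
      rw [h3]
      exact hs₀
  · refine H.fix3 (g := g * l⁻¹) (fun h1 => hg ?_) ?_
    · have h2 : g = g * l⁻¹ * l := by group
      rw [h2]
      exact mul_mem h1 (L_le_M hl)
    · have h2 : (g * l⁻¹)⁻¹ * x * (g * l⁻¹) * x = l * y * l⁻¹ * x := by rw [hy]; group
      rw [h2]
      exact h
  · -- field type
    have hcx : ∀ a ∈ A, (g * a * g⁻¹) * x = x * (g * a * g⁻¹) := by
      intro a ha
      have h1 := hF.cA a ha
      have e1 : x = g * y * g⁻¹ := by rw [hy]; group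
      calc (g * a * g⁻¹) * x = g * a * g⁻¹ * (g * y * g⁻¹) := by rw [← e1]
        _ = g * (a * y) * g⁻¹ := by group
        _ = g * (y * a) * g⁻¹ := by rw [h1]
        _ = (g * y * g⁻¹) * (g * a * g⁻¹) := by group
        _ = x * (g * a * g⁻¹) := by rw [← e1]
    have hAK := hF.dA g (fun a ha => H.Cx _ (hcx a ha)) (fun a ha => by
      have : (g * a * g⁻¹) * x * (g * a * g⁻¹)⁻¹ * x⁻¹ = 1 := by rw [hcx a ha]; group
      rw [this]; exact one_mem _)
    have hvx := hcx v hF.vA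
    have hvK := hAK v hF.vA
    obtain ⟨t, ht⟩ : ∃ t, t = g * v * g⁻¹ := ⟨_, rfl⟩
    rw [← ht] at hvx hvK
    have htT : IsT L x t := by
      refine ⟨hvK, hvx, ?_, ?_⟩
      · rw [ht]
        calc g * v * g⁻¹ * (g * v * g⁻¹) = g * (v * v) * g⁻¹ := by group
          _ = 1 := by rw [hF.vv]; group
      · intro h1
        apply hF.v1
        calc v = g⁻¹ * (g * v * g⁻¹) * g := by group
          _ = 1 := by rw [← ht, h1]; group
    have hcB : ∀ b ∈ B, (g * b * g⁻¹) * (x * t) = (x * t) * (g * b * g⁻¹) := by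
      intro b hb
      have h1 := hF.cB b hb
      have e1 : x * t = g * (y * v) * g⁻¹ := by rw [ht, hy]; group
      rw [e1]
      calc (g * b * g⁻¹) * (g * (y * v) * g⁻¹) = g * (b * (y * v)) * g⁻¹ := by group
        _ = g * (y * v * b) * g⁻¹ := by rw [h1]
        _ = _ := by group
    have hBM : ∀ b ∈ B, g * b * g⁻¹ ∈ normalizer (L : Set G) := fun b hb =>
      H.Cxt t htT _ (hcB b hb)
    have hBK := hF.dB g hBM (fun b hb => by
      obtain ⟨c, hc⟩ : ∃ c, c = g * b * g⁻¹ := ⟨_, rfl⟩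
      have h1 := hcB b hb
      have h2 := hBM b hb
      rw [← hc] at h1 h2 ⊢
      have h3 : c * x * c⁻¹ * x⁻¹ = x * (t * (c * t * c⁻¹)⁻¹) * x⁻¹ := by
        calc c * x * c⁻¹ * x⁻¹ = c * (x * t) * c⁻¹ * (c * t * c⁻¹)⁻¹ * x⁻¹ := by group
          _ = (x * t) * c * c⁻¹ * (c * t * c⁻¹)⁻¹ * x⁻¹ := by rw [h1]
          _ = _ := by group
      rw [h3]
      exact K_conj H.xM (mul_mem hvK (inv_mem (K_conj h2 hvK))))
    have hLK : L ≤ (centralizer (L : Set G)).comap (MulAut.conj g).toMonoidHom :=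
      hF.gen _ (fun a ha => mem_comap.mpr (hAK a ha)) (fun b hb => mem_comap.mpr (hBK b hb))
    exact H.nc g (fun l hl => mem_comap.mp (hLK hl))

end Hyp

end Cfsg.Agent.UGT.ThE.Base
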