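import Cfsg.Agent.UGT.ThE.Fix

/-!
# Theorem E, III: the end, `x ∉ X`

`Out X L x`: abstract input of (E3)-(E6), (E9) (all types of `L`). `Hyp.out`, `Hyp.e8`, `Hyp.false_of_out`: the
types `L₂(q)`.
-/

set_option autoImplicit false

open Subgroup

namespace Cfsg.Agent.UGT.ThE.Base

variable {G : Type*} [Group G]

/-- The hypotheses of the second part of Theorem E: `X` is normal, `x ∉ X`, all `t ∈ X`, `x` normalizes only one
conjugate of `L`, involutions of `C_X(x)` are `t`'s or `s t`'s, commuting `s`'s are equal. -/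
structure Out (X L : Subgroup G) (x : G) : Prop extends Pre L x where
  four : ∃ t, IsT L x t
  XN : X.Normal
  xX : x ∉ X
  LX : L ≤ X
  tX : ∀ t, IsT L x t → t ∈ X
  fix : ∀ g : G, g⁻¹ * x * g ∈ normalizer (L : Set G) → g ∈ normalizer (L : Set G)
  cls' : ∀ e ∈ X, e * x = x * e → e * e = 1 → e ≠ 1 →
    IsT L x e ∨ ∃ s, IsS L x s ∧ ∃ t, IsT1 L x t ∧ e = s * t
  comm : ∀ s s', IsS L x s → IsS L x s' → s * s' = s' * s → s = s'

namespace Out

variable {X L : Subgroup G} {x : G} (H : Out X L x)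
include H

theorem t1X {t : G} (ht : IsT1 L x t) : t ∈ X := by
  by_cases h : t = 1
  · rw [h]; exact one_mem _
  · exact H.tX t (ht.isT h)

/-- (E3) -/
theorem e3 [Finite G] {t g : G} (ht : IsT L x t) (h : (g * t * g⁻¹) * x = x * (g * t * g⁻¹)) :
    g ∈ normalizer (L : Set G) := by
  apply H.fix
  apply H.Ct t ht
  calc g⁻¹ * x * g * t = g⁻¹ * (x * (g * t * g⁻¹)) * g := by group
    _ = g⁻¹ * ((g * t * g⁻¹) * x) * g := by rw [h]
    _ = t * (g⁻¹ * x * g) := by group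

/-- the link, for a conjugate `z` of `v` -/
theorem link_cases [Finite G] {v g : G} (hv : IsT L x v) :
    g * v * g⁻¹ ∈ normalizer (L : Set G) ∨ ∃ e ∈ X, e * e = 1 ∧ e ≠ 1 ∧ e * x = x * e ∧
      e * (g * v * g⁻¹) = (g * v * g⁻¹) * e ∧
      (∀ c, c * x = x * c → c * (g * v * g⁻¹) = (g * v * g⁻¹) * c → c * e = e * c) ∧
      ∃ h, h * (g * v * g⁻¹) * h⁻¹ = (g * v * g⁻¹) * e := by
  have hvX : v ∈ X := H.tX v hv
  obtain ⟨z, hz⟩ : ∃ z, z = g * v * g⁻¹ := ⟨_, rfl⟩
  rw [← hz]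
  have hzz : z * z = 1 := by
    rw [hz]
    calc g * v * g⁻¹ * (g * v * g⁻¹) = g * (v * v) * g⁻¹ := by group
      _ = 1 := by rw [hv.sq]; group
  have hzX : z ∈ X := hz ▸ H.XN.conj_mem v hvX g
  obtain ⟨e, hee, he1, hec, hex, hez, h⟩ := Link.link H.XN H.xx H.xX hzz hzX
  rcases h with ⟨heX, h⟩ | ⟨heX, h, hh⟩
  · exact Or.inr ⟨e, heX, hee, he1, hex, hez, hec, h⟩
  · left
    have h1 : (h * g) * v * (h * g)⁻¹ = x * e := by rw [← hh, hz]; group
    have h2 : h * g ∈ normalizer (L : Set G) := by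
      apply H.e3 hv
      rw [h1]
      calc x * e * x = x * (e * x) := by group
        _ = x * (x * e) := by rw [hex]
    have h3 : IsT L x (x * e) := by
      refine ⟨?_, ?_, ?_, ?_⟩
      · rw [← h1]; exact K_conj h2 hv.mem
      · calc x * e * x = x * (e * x) := by group
          _ = x * (x * e) := by rw [hex]
      · rw [← h1]
        calc h * g * v * (h * g)⁻¹ * (h * g * v * (h * g)⁻¹) = (h * g) * (v * v) * (h * g)⁻¹ := by
              group
          _ = 1 := by rw [hv.sq]; group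
      · rw [← h1]
        intro h4
        apply hv.ne
        calc v = (h * g)⁻¹ * (h * g * v * (h * g)⁻¹) * (h * g) := by group
          _ = 1 := by rw [h4]; group
    apply H.Cxt _ h3
    have h4 : x * (x * e) = e := by rw [← mul_assoc, H.xx, one_mul]
    rw [h4]
    exact hez.symm

/-- (E6) -/
theorem e6 [Finite G] {s t₁ v m : G} (hs : IsS L x s) (ht₁ : IsT1 L x t₁) (hv : IsT L x v)
    (hvc : v * (s * t₁) = s * t₁ * v) (hm : m * (s * t₁) = s * t₁ * m) :
    m * v * m⁻¹ ∈ normalizer (L : Set G) := by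
  obtain ⟨t₀, ht₀⟩ : ∃ t₀, t₀ = s * t₁ := ⟨_, rfl⟩
  rw [← ht₀] at hvc hm
  rcases H.link_cases (g := m) hv with h | ⟨e, heX, hee, he1, hex, hez, hec, h, hh⟩
  · exact h
  obtain ⟨z, hz⟩ : ∃ z, z = m * v * m⁻¹ := ⟨_, rfl⟩
  rw [← hz] at hez hec hh ⊢
  have hzt : t₀ * z = z * t₀ := by
    rw [hz]
    calc t₀ * (m * v * m⁻¹) = (t₀ * m) * v * m⁻¹ := by group
      _ = m * (t₀ * v) * m⁻¹ := by rw [← hm]; group
      _ = m * v * (t₀ * m⁻¹) := by rw [← hvc]; group
      _ = m * v * (m⁻¹ * (m * t₀) * m⁻¹) := by group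
      _ = m * v * (m⁻¹ * (t₀ * m) * m⁻¹) := by rw [hm]
      _ = m * v * m⁻¹ * t₀ := by group
  have hst : s * t₁ = t₁ * s := comm_of_mem hs.mem ht₁.mem
  have htx : t₀ * x = x * t₀ := by
    rw [ht₀]
    calc s * t₁ * x = s * (t₁ * x) := by group
      _ = (s * x) * t₁ := by rw [ht₁.comm]; group
      _ = x * (s * t₁) := by rw [hs.comm]; group
  have het : t₀ * e = e * t₀ := hec t₀ htx hzt
  rcases H.cls' e heX hex hee he1 with h1 | ⟨s', hs', t', ht', h1⟩
  · exact H.Ct e h1 z hez.symm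
  · have c1 : s * s' = s' * s := by
      have h2 : (s' * s)⁻¹ * (s * s') = t' * t₁ * (t₁ * t')⁻¹ := by
        have h3 : (s * s') * (t₁ * t') = (s' * s) * (t' * t₁) := by
          calc (s * s') * (t₁ * t') = s * (s' * t₁) * t' := by group
            _ = s * (t₁ * s') * t' := by rw [comm_of_mem hs'.mem ht₁.mem]
            _ = t₀ * e := by rw [ht₀, h1]; group
            _ = e * t₀ := het
            _ = s' * (t' * s) * t₁ := by rw [ht₀, h1]; group
            _ = s' * (s * t') * t₁ := by rw [comm_of_mem hs.mem ht'.mem]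
            _ = _ := by group
        calc (s' * s)⁻¹ * (s * s') = (s' * s)⁻¹ * ((s * s') * (t₁ * t')) * (t₁ * t')⁻¹ := by group
          _ = (s' * s)⁻¹ * ((s' * s) * (t' * t₁)) * (t₁ * t')⁻¹ := by rw [h3]
          _ = _ := by group
      have h3 : (s' * s)⁻¹ * (s * s') = 1 := H.disj
        (mul_mem (inv_mem (mul_mem hs'.mem hs.mem)) (mul_mem hs.mem hs'.mem)) (by
          rw [h2]
          exact mul_mem (mul_mem ht'.mem ht₁.mem) (inv_mem (mul_mem ht₁.mem ht'.mem)))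
      exact (inv_mul_eq_one.mp h3).symm
    have c2 := H.comm s s' hs hs' c1
    rw [← c2] at h1
    have c3 : t' * t₁ = t₁ * t' := by
      apply mul_left_cancel (a := s * s)
      calc s * s * (t' * t₁) = s * (s * t') * t₁ := by group
        _ = s * (t' * s) * t₁ := by rw [comm_of_mem hs.mem ht'.mem]
        _ = (s * t') * (s * t₁) := by group
        _ = t₀ * e := by rw [← h1, ← ht₀, het]
        _ = s * (t₁ * s) * t' := by rw [ht₀, h1]; group
        _ = s * s * (t₁ * t') := by rw [← hst]; group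
    by_cases hne : t' = t₁
    · exfalso
      have h2 : e = t₀ := by rw [h1, hne, ht₀]
      rw [h2] at hh
      have h3 : (m⁻¹ * h * m) * v * (m⁻¹ * h * m)⁻¹ = v * t₀ := by
        calc (m⁻¹ * h * m) * v * (m⁻¹ * h * m)⁻¹ = m⁻¹ * (h * (m * v * m⁻¹) * h⁻¹) * m := by group
          _ = m⁻¹ * (z * t₀) * m := by rw [← hz, hh]
          _ = m⁻¹ * (m * v * m⁻¹) * (t₀ * m) := by rw [hz]; group
          _ = m⁻¹ * (m * v * m⁻¹) * (m * t₀) := by rw [hm]
          _ = v * t₀ := by group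
      have h4 : m⁻¹ * h * m ∈ normalizer (L : Set G) := by
        apply H.e3 hv
        rw [h3]
        calc v * t₀ * x = v * (t₀ * x) := by group
          _ = (v * x) * t₀ := by rw [htx]; group
          _ = x * (v * t₀) := by rw [hv.comm]; group
      have h5 : v * t₀ ∈ centralizer (L : Set G) := h3 ▸ K_conj h4 hv.mem
      have h6 : s ∈ centralizer (L : Set G) := by
        have : s = v⁻¹ * (v * t₀) * t₁⁻¹ := by rw [ht₀]; group
        rw [this]
        exact mul_mem (mul_mem (inv_mem hv.mem) h5) (inv_mem ht₁.mem)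
      exact hs.ne (H.disj hs.mem h6)
    · have h2 : IsT L x (t' * t₁) := by
        refine (ht'.mul ht₁ c3).isT ?_
        intro h3
        apply hne
        rw [eq_inv_of_mul_eq_one_left h3, inv_eq_of_mul_eq_one_left ht₁.sq]
      apply H.Ct _ h2
      have h3 : e * t₀ = t' * t₁ := by
        rw [h1, ht₀]
        calc s * t' * (s * t₁) = s * (t' * s) * t₁ := by group
          _ = (s * s) * (t' * t₁) := by rw [← comm_of_mem hs.mem ht'.mem]; group
          _ = t' * t₁ := by rw [hs.sq, one_mul]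
      rw [← h3]
      calc z * (e * t₀) = (z * e) * t₀ := by group
        _ = e * (z * t₀) := by rw [← hez]; group
        _ = e * t₀ * z := by rw [← hzt]; group

/-- (E9) -/
theorem e9 [Finite G] (h8 : ∀ s t₁ m, IsS L x s → IsT1 L x t₁ → m * (s * t₁) = s * t₁ * m →
      m ∈ normalizer (L : Set G)) {v : G} (hv : IsT L x v) (g : G) :
    g * v * g⁻¹ ∈ normalizer (L : Set G) := by
  rcases H.link_cases (g := g) hv with h | ⟨e, heX, hee, he1, hex, hez, -, -⟩
  · exact h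
  · rcases H.cls' e heX hex hee he1 with h1 | ⟨s', hs', t', ht', h1⟩
    · exact H.Ct e h1 _ hez.symm
    · rw [h1] at hez
      exact h8 s' t' _ hs' ht' hez.symm

/-- **Theorem E, `x ∉ X`.** -/
theorem false_of [Finite G] (h8 : ∀ s t₁ m, IsS L x s → IsT1 L x t₁ → m * (s * t₁) = s * t₁ * m →
      m ∈ normalizer (L : Set G)) (hmin : ∀ N : Subgroup G, N.Normal → N ≤ X → N ≠ ⊥ → X ≤ N)
    (hcov : ∀ g, g ∈ X ∨ g * x ∈ X) : False := by
  obtain ⟨v, hv⟩ := H.four
  have hXM : X ≤ normalizer (L : Set G) := by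
    refine (hmin (normalClosure {v}) inferInstance ?_ ?_).trans ?_
    · have := H.XN
      exact normalClosure_le_normal (Set.singleton_subset_iff.mpr (H.tX v hv))
    · intro h
      have h1 : v ∈ normalClosure {v} := subset_normalClosure (Set.mem_singleton v)
      rw [h, mem_bot] at h1
      exact hv.ne h1
    · rw [normalClosure, closure_le]
      intro y hy
      obtain ⟨a, ha, hay⟩ := Group.mem_conjugatesOfSet_iff.mp hy
      rw [Set.mem_singleton_iff] at ha
      rw [ha] at hay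
      obtain ⟨c, hc⟩ := isConj_iff.mp hay
      rw [← hc]
      exact H.e9 h8 hv c
  have hLn : L.Normal := ⟨fun l hl g => by
    rcases hcov g with h | h
    · exact L_conj (hXM h) hl
    · have h1 : g = g * x * x⁻¹ := by group
      exact L_conj (h1 ▸ mul_mem (hXM h) (inv_mem H.xM)) hl⟩
  have hL : L ≠ ⊥ := by
    intro h
    apply H.nc 1
    intro l hl
    rw [h, mem_bot] at hl
    rw [hl]
    simp
  have h1 := hmin L hLn H.LX hL (H.tX v hv)
  exact hv.ne (H.disj h1 hv.mem)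

end Out

namespace Hyp

variable {X L : Subgroup G} {x : G} (H : Hyp L x)
include H

/-- (E1), (E4): the second part applies. -/
theorem out [Finite G] (XN : X.Normal) (xX : x ∉ X) (LX : L ≤ X) (tX : ∀ t, IsT L x t → t ∈ X) :
    Out X L x where
  toPre := H.toPre
  four := H.four
  XN := XN
  xX := xX
  LX := LX
  tX := tX
  comm := H.comm
  fix := fun g hg => by
    refine H.fix (fun t ht g' h => xX ?_) hg
    have htX : t ∈ X := by
      by_cases h1 : t = 1
      · rw [h1]; exact one_mem _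
      · exact tX t (ht.isT h1)
    have h1 : x = g' * (g'⁻¹ * (x * t) * g') * g'⁻¹ * t⁻¹ := by group
    rw [h1]
    exact mul_mem (XN.conj_mem _ (LX h) g') (inv_mem htX)
  cls' := fun e heX he hee h1 => by
    have t1X : ∀ t, IsT1 L x t → t ∈ X := fun t ht => by
      by_cases h1 : t = 1
      · rw [h1]; exact one_mem _
      · exact tX t (ht.isT h1)
    rcases H.cls he hee h1 with h | ⟨t, ht, h⟩ | h | ⟨s, hs, t, ht, h⟩
    · exact Or.inl h
    · exfalso
      apply xX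
      have : x = e * t⁻¹ := by rw [h]; group
      rw [this]
      exact mul_mem heX (inv_mem (t1X t ht))
    · exact Or.inr h
    · exfalso
      apply xX
      have : x = e * t⁻¹ * s⁻¹ := by rw [h]; group
      rw [this]
      exact mul_mem (mul_mem heX (inv_mem (t1X t ht))) (inv_mem (LX hs.mem))

/-- (E8) -/
theorem e8 [Finite G] (O : Out X L x) {s t₁ m : G} (hs : IsS L x s) (ht₁ : IsT1 L x t₁)
    (hm : m * (s * t₁) = s * t₁ * m) : m ∈ normalizer (L : Set G) := by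
  by_contra hmM
  obtain ⟨f₁, f₂, hf₁, hf₂, hf, hc, hd₁, hd₂⟩ := H.exists_pair hs ht₁
  have hd : f₁ * f₂ * (s * t₁) = s * t₁ * (f₁ * f₂) := by
    calc f₁ * f₂ * (s * t₁) = f₁ * (f₂ * (s * t₁)) := by group
      _ = (f₁ * (s * t₁)) * f₂ := by rw [hd₂]; group
      _ = s * t₁ * (f₁ * f₂) := by rw [hd₁]; group
  have hmi : m⁻¹ * (s * t₁) = s * t₁ * m⁻¹ := by
    calc m⁻¹ * (s * t₁) = m⁻¹ * (s * t₁ * m) * m⁻¹ := by group
      _ = m⁻¹ * (m * (s * t₁)) * m⁻¹ := by rw [hm]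
      _ = _ := by group
  have hM : ∀ f, IsT L x f → f * (s * t₁) = s * t₁ * f → m⁻¹ * f * m ∈ normalizer (L : Set G) := by
    intro f hfT hfc
    have := O.e6 (m := m⁻¹) hs ht₁ hfT hfc hmi
    rwa [inv_inv] at this
  have hnK : ∀ f, IsT L x f → m⁻¹ * f * m ∉ centralizer (L : Set G) :=
    fun f hfT h1 => hmM (H.fixT hfT h1)
  have hst : s * t₁ = t₁ * s := comm_of_mem hs.mem ht₁.mem
  have hcs : ∀ f, IsT L x f → f * (s * t₁) = s * t₁ * f → m⁻¹ * f * m * s = s * (m⁻¹ * f * m) := by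
    intro f hfT hfc
    obtain ⟨e, he⟩ : ∃ e, e = m⁻¹ * f * m := ⟨_, rfl⟩
    have heM : e ∈ normalizer (L : Set G) := he ▸ hM f hfT hfc
    rw [← he]
    have h1 : e * (s * t₁) * e⁻¹ = s * t₁ := by
      have h2 : e * (s * t₁) = s * t₁ * e := by
        rw [he]
        calc m⁻¹ * f * m * (s * t₁) = m⁻¹ * f * (m * (s * t₁)) := by group
          _ = m⁻¹ * (f * (s * t₁)) * m := by rw [hm]; group
          _ = (m⁻¹ * (s * t₁)) * f * m := by rw [hfc]; group
          _ = s * t₁ * (m⁻¹ * f * m) := by rw [hmi]; group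
      rw [h2]; group
    have h2 : e * s * e⁻¹ * s⁻¹ = s * (t₁ * (e * t₁ * e⁻¹)⁻¹) * s⁻¹ := by
      have h3 : (e * s * e⁻¹) * (e * t₁ * e⁻¹) = s * t₁ := by
        rw [← h1]; group
      calc e * s * e⁻¹ * s⁻¹ = (e * s * e⁻¹) * (e * t₁ * e⁻¹) * (e * t₁ * e⁻¹)⁻¹ * s⁻¹ := by group
        _ = s * t₁ * (e * t₁ * e⁻¹)⁻¹ * s⁻¹ := by rw [h3]
        _ = _ := by group
    have h3 : e * s * e⁻¹ * s⁻¹ = 1 := H.disj (mul_mem (L_conj heM hs.mem) (inv_mem hs.mem)) (by
      rw [h2]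
      exact K_conj (L_le_M hs.mem) (mul_mem ht₁.mem (inv_mem (K_conj heM ht₁.mem))))
    calc e * s = (e * s * e⁻¹ * s⁻¹) * (s * e) := by group
      _ = s * e := by rw [h3, one_mul]
  have sqc : ∀ f, IsT L x f → m⁻¹ * f * m * (m⁻¹ * f * m) = 1 := by
    intro f hfT
    calc m⁻¹ * f * m * (m⁻¹ * f * m) = m⁻¹ * (f * f) * m := by group
      _ = 1 := by rw [hfT.sq]; group
  have e12 : m⁻¹ * f₁ * m * (m⁻¹ * f₂ * m) = m⁻¹ * (f₁ * f₂) * m := by group
  have hv : ∃ v, IsT L x v ∧ v * (s * t₁) = s * t₁ * v ∧ m⁻¹ * v * m * s ∈ centralizer (L : Set G) := by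
    rcases H.cens s hs _ (hM f₁ hf₁ hd₁) _ (hM f₂ hf₂ hd₂) (sqc f₁ hf₁) (sqc f₂ hf₂) (by
        rw [e12, hc]; group) (hcs f₁ hf₁ hd₁) (hcs f₂ hf₂ hd₂) (hnK f₁ hf₁) (hnK f₂ hf₂) (by
          rw [e12]; exact hnK _ hf) with h1 | h1 | h1 | h1
    · exact ⟨f₁, hf₁, hd₁, h1⟩
    · exact ⟨f₂, hf₂, hd₂, h1⟩
    · exact ⟨f₁ * f₂, hf, hd, by rw [← e12]; exact h1⟩
    · exfalso
      have hcm : ∀ f, IsT L x f → ∀ l, l * (m⁻¹ * f * m) = m⁻¹ * f * m * l →
          m * l * m⁻¹ ∈ normalizer (L : Set G) := by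
        intro f hfT l hl
        apply H.Ct f hfT
        calc m * l * m⁻¹ * f = m * (l * (m⁻¹ * f * m)) * m⁻¹ := by group
          _ = m * (m⁻¹ * f * m * l) * m⁻¹ := by rw [hl]
          _ = f * (m * l * m⁻¹) := by group
      have hLM := h1 ((normalizer (L : Set G)).comap (MulAut.conj m).toMonoidHom) (by
        intro l _ h2
        rw [mem_comap]
        rcases h2 with h2 | h2 | h2
        · exact hcm f₁ hf₁ l h2
        · exact hcm f₂ hf₂ l h2
        · rw [e12] at h2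
          exact hcm _ hf l h2)
      exact hnK f₁ hf₁ (H.z3 (fun l hl => mem_comap.mp (hLM hl)) hf₁.mem (hM f₁ hf₁ hd₁))
  obtain ⟨v, hvT, hvc, hvs⟩ := hv
  have hvM := hM v hvT hvc
  obtain ⟨v', hv'⟩ : ∃ v', v' = m⁻¹ * v * m := ⟨_, rfl⟩
  rw [← hv'] at hvs hvM
  have hsv : s * v = v * s := comm_of_mem hs.mem hvT.mem
  have hvt : v * t₁ = t₁ * v := by
    apply mul_left_cancel (a := s)
    calc s * (v * t₁) = (s * v) * t₁ := by group
      _ = v * (s * t₁) := by rw [hsv]; group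
      _ = s * (t₁ * v) := by rw [hvc]; group
  have ht₂ : IsT1 L x (v * t₁) := hvT.isT1.mul ht₁ hvt
  have hvc₂ : v * (s * (v * t₁)) = s * (v * t₁) * v := by
    calc v * (s * (v * t₁)) = (v * s) * v * t₁ := by group
      _ = s * v * (v * t₁) := by rw [← hsv]; group
      _ = s * v * (t₁ * v) := by rw [hvt]
      _ = s * (v * t₁) * v := by group
  -- `L ^ m` centralizes `s (v t₁)`
  have hLm : ∀ l ∈ L, (m * l * m⁻¹) * (s * (v * t₁)) = s * (v * t₁) * (m * l * m⁻¹) := by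
    intro l hl
    have h1 : m⁻¹ * (s * (v * t₁)) * m = v' * s * t₁ := by
      calc m⁻¹ * (s * (v * t₁)) * m = m⁻¹ * (s * v) * t₁ * m := by group
        _ = m⁻¹ * v * (s * t₁ * m) := by rw [hsv]; group
        _ = m⁻¹ * v * (m * (s * t₁)) := by rw [hm]
        _ = v' * s * t₁ := by rw [hv']; group
    have h2 := comm_of_mem hl (mul_mem hvs ht₁.mem)
    rw [← h1] at h2
    calc (m * l * m⁻¹) * (s * (v * t₁)) = m * (l * (m⁻¹ * (s * (v * t₁)) * m)) * m⁻¹ := by group
      _ = m * (m⁻¹ * (s * (v * t₁)) * m * l) * m⁻¹ := by rw [h2]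
      _ = _ := by group
  have hconj : ∀ l ∈ L, m * (l * v' * l⁻¹ * v'⁻¹) * m⁻¹ ∈ normalizer (L : Set G) := by
    intro l hl
    have h1 := O.e6 (m := m * l * m⁻¹) hs ht₂ hvT hvc₂ (hLm l hl)
    have h2 : m * (l * v' * l⁻¹ * v'⁻¹) * m⁻¹ = (m * l * m⁻¹) * v * (m * l * m⁻¹)⁻¹ * v⁻¹ := by
      rw [hv']; group
    rw [h2]
    exact mul_mem h1 (inv_mem (K_le_M hvT.mem))
  obtain ⟨D, hD⟩ : ∃ D, D = closure {d | ∃ l ∈ L, d = l * v' * l⁻¹ * v'⁻¹} := ⟨_, rfl⟩
  have hDL : D ≤ L := by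
    rw [hD, closure_le]
    rintro d ⟨l, hl, rfl⟩
    have : l * v' * l⁻¹ * v'⁻¹ = l * (v' * l⁻¹ * v'⁻¹) := by group
    rw [this]
    exact mul_mem hl (L_conj hvM (inv_mem hl))
  have hDn : ∀ l ∈ L, ∀ n ∈ D, l * n * l⁻¹ ∈ D := by
    intro a ha n hn
    rw [hD] at hn
    induction hn using closure_induction with
    | mem d hd =>
      obtain ⟨l, hl, rfl⟩ := hd
      have h1 : a * (l * v' * l⁻¹ * v'⁻¹) * a⁻¹ =
          ((a * l) * v' * (a * l)⁻¹ * v'⁻¹) * (a * v' * a⁻¹ * v'⁻¹)⁻¹ := by group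
      rw [h1, hD]
      exact mul_mem (subset_closure ⟨a * l, mul_mem ha hl, rfl⟩)
        (inv_mem (subset_closure ⟨a, ha, rfl⟩))
    | one => rw [mul_one, mul_inv_cancel]; exact one_mem _
    | mul y z _ _ h1 h2 =>
      have : a * (y * z) * a⁻¹ = (a * y * a⁻¹) * (a * z * a⁻¹) := by group
      rw [this]
      exact mul_mem h1 h2
    | inv y _ h1 =>
      have : a * y⁻¹ * a⁻¹ = (a * y * a⁻¹)⁻¹ := by group
      rw [this]
      exact inv_mem h1
  have hDeq : D = L := by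
    rcases H.simp D hDL hDn with h1 | h1
    · exfalso
      apply hnK v hvT
      rw [← hv', mem_centralizer_iff]
      intro l hl
      have h2 : l * v' * l⁻¹ * v'⁻¹ ∈ D := by
        rw [hD]; exact subset_closure ⟨l, hl, rfl⟩
      rw [h1, mem_bot] at h2
      calc l * v' = (l * v' * l⁻¹ * v'⁻¹) * (v' * l) := by group
        _ = v' * l := by rw [h2, one_mul]
    · exact h1
  have hL1 : ∀ l ∈ L, m * l * m⁻¹ ∈ normalizer (L : Set G) := by
    intro l hl
    rw [← hDeq, hD] at hl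
    induction hl using closure_induction with
    | mem d hd =>
      obtain ⟨l, hl, rfl⟩ := hd
      exact hconj l hl
    | one => rw [mul_one, mul_inv_cancel]; exact one_mem _
    | mul y z _ _ h1 h2 =>
      have : m * (y * z) * m⁻¹ = (m * y * m⁻¹) * (m * z * m⁻¹) := by group
      rw [this]
      exact mul_mem h1 h2
    | inv y _ h1 =>
      have : m * y⁻¹ * m⁻¹ = (m * y * m⁻¹)⁻¹ := by group
      rw [this]
      exact inv_mem h1
  exact hnK v hvT (H.z3 hL1 hvT.mem (hv' ▸ hvM))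

/-- **Theorem E, `x ∉ X`.** -/
theorem false_of_out [Finite G] (XN : X.Normal) (xX : x ∉ X) (LX : L ≤ X)
    (tX : ∀ t, IsT L x t → t ∈ X)
    (hmin : ∀ N : Subgroup G, N.Normal → N ≤ X → N ≠ ⊥ → X ≤ N)
    (hcov : ∀ g, g ∈ X ∨ g * x ∈ X) : False := by
  have O := H.out XN xX LX tX
  exact O.false_of (fun _ _ _ hs ht hm => H.e8 O hs ht hm) hmin hcov

end Hyp

end Cfsg.Agent.UGT.ThE.Base
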