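import Mathlib

/-!
# The dihedral link

`x ∉ X`, `z ∈ X` involutions, `X` normal in the finite group `G`: the central involution `e` of `⟨x, z⟩` lies
in `X` and `z e` is conjugate to `z`, or `e ∉ X` and `x e` is conjugate to `z`.
-/

set_option autoImplicit false

open Subgroup

namespace Cfsg.Agent.UGT.ThE.Link

variable {G : Type*} [Group G]

theorem conj_pow_eq {x z : G} (hxx : x * x = 1) (hzz : z * z = 1) (i : ℕ) :
    (x * z) ^ i * z * ((x * z) ^ i)⁻¹ = (x * z) ^ (2 * i) * z := by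
  have hz : z⁻¹ = z := inv_eq_of_mul_eq_one_left hzz
  have hx : x⁻¹ = x := inv_eq_of_mul_eq_one_left hxx
  have h1 : z * ((x * z) ^ i)⁻¹ = (x * z) ^ i * z := by
    rw [← inv_pow, mul_inv_rev, hz, hx]
    induction i with
    | zero => simp
    | succ n ih =>
      calc z * (z * x) ^ (n + 1) = z * (z * x) ^ n * (z * x) := by rw [pow_succ]; group
        _ = (x * z) ^ n * z * (z * x) := by rw [ih]
        _ = (x * z) ^ n * (x * z) * z := by
          calc (x * z) ^ n * z * (z * x) = (x * z) ^ n * (z * z) * x := by group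
            _ = (x * z) ^ n * x := by rw [hzz]; group
            _ = (x * z) ^ n * x * (z * z) := by rw [hzz]; group
            _ = _ := by group
        _ = (x * z) ^ (n + 1) * z := by rw [pow_succ]
  calc (x * z) ^ i * z * ((x * z) ^ i)⁻¹ = (x * z) ^ i * (z * ((x * z) ^ i)⁻¹) := by group
    _ = (x * z) ^ i * ((x * z) ^ i * z) := by rw [h1]
    _ = (x * z) ^ (2 * i) * z := by rw [two_mul, pow_add]; group

/-- **The dihedral link.** -/
theorem link [Finite G] {X : Subgroup G} (hX : X.Normal) {x z : G} (hxx : x * x = 1) (hx : x ∉ X)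
    (hzz : z * z = 1) (hz : z ∈ X) :
    ∃ e, e * e = 1 ∧ e ≠ 1 ∧ (∀ c, c * x = x * c → c * z = z * c → c * e = e * c) ∧ e * x = x * e ∧
      e * z = z * e ∧
      ((e ∈ X ∧ ∃ h, h * z * h⁻¹ = z * e) ∨ (e ∉ X ∧ ∃ h, h * z * h⁻¹ = x * e)) := by
  have hz' : z⁻¹ = z := inv_eq_of_mul_eq_one_left hzz
  have hx' : x⁻¹ = x := inv_eq_of_mul_eq_one_left hxx
  obtain ⟨ρ, hρ⟩ : ∃ ρ, ρ = x * z := ⟨_, rfl⟩
  have hρX : ρ ∉ X := by
    intro h
    apply hx
    have h2 : x = ρ * z := by rw [hρ, mul_assoc, hzz, mul_one]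
    rw [h2]
    exact mul_mem h hz
  have hρ2 : ρ ^ 2 ∈ X := by
    have h2 : ρ ^ 2 = (x * z * x⁻¹) * z := by rw [hρ, hx', pow_two]; group
    rw [h2]
    exact mul_mem (hX.conj_mem z hz x) hz
  have hev : ∀ n, Even n → ρ ^ n ∈ X := by
    rintro n ⟨k, rfl⟩
    rw [← two_mul, pow_mul]
    exact pow_mem hρ2 k
  have hod : ∀ n, Odd n → ρ ^ n ∉ X := by
    rintro n ⟨k, rfl⟩ h
    rw [pow_succ, pow_mul] at h
    exact hρX ((X.mul_mem_cancel_left (pow_mem hρ2 k)).mp h)
  have hord : Even (orderOf ρ) := by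
    by_contra h
    rw [Nat.not_even_iff_odd] at h
    exact hod _ h (by rw [pow_orderOf_eq_one]; exact one_mem _)
  obtain ⟨j, hj⟩ := hord
  have hjpos : 0 < j := by
    have := orderOf_pos ρ
    omega
  refine ⟨ρ ^ j, ?_, ?_, ?_, ?_, ?_, ?_⟩
  · rw [← pow_add, ← hj, pow_orderOf_eq_one]
  · intro h
    have := orderOf_le_of_pow_eq_one hjpos h
    omega
  · intro c h1 h2
    have h3 : Commute c ρ := by
      rw [hρ]
      exact Commute.mul_right h1 h2
    exact h3.pow_right j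
  · have h1 : ρ ^ j = (ρ ^ j)⁻¹ := (inv_eq_of_mul_eq_one_left (by
      rw [← pow_add, ← hj, pow_orderOf_eq_one])).symm
    have h2 : x * ρ * x⁻¹ = ρ⁻¹ := by
      rw [hρ, mul_inv_rev, hz', hx']
      calc x * (x * z) * x = (x * x) * (z * x) := by group
        _ = z * x := by rw [hxx, one_mul]
    have h3 : x * ρ ^ j * x⁻¹ = ρ ^ j := by
      rw [← conj_pow, h2, inv_pow, ← h1]
    calc ρ ^ j * x = (x * ρ ^ j * x⁻¹) * x := by rw [h3]
      _ = x * ρ ^ j := by group
  · have h1 : ρ ^ j = (ρ ^ j)⁻¹ := (inv_eq_of_mul_eq_one_left (by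
      rw [← pow_add, ← hj, pow_orderOf_eq_one])).symm
    have h2 : z * ρ * z⁻¹ = ρ⁻¹ := by
      rw [hρ, mul_inv_rev, hz', hx']
      calc z * (x * z) * z = (z * x) * (z * z) := by group
        _ = z * x := by rw [hzz, mul_one]
    have h3 : z * ρ ^ j * z⁻¹ = ρ ^ j := by
      rw [← conj_pow, h2, inv_pow, ← h1]
    calc ρ ^ j * z = (z * ρ ^ j * z⁻¹) * z := by rw [h3]
      _ = z * ρ ^ j := by group
  · have hjj : ρ ^ (2 * j) = 1 := by rw [two_mul, ← hj, pow_orderOf_eq_one]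
    have hze : z * ρ ^ j = ρ ^ j * z := by
      have h1 : ρ ^ j = (ρ ^ j)⁻¹ := (inv_eq_of_mul_eq_one_left (by
        rw [← pow_add, ← hj, pow_orderOf_eq_one])).symm
      have h2 : z * ρ * z⁻¹ = ρ⁻¹ := by
        rw [hρ, mul_inv_rev, hz', hx']
        calc z * (x * z) * z = (z * x) * (z * z) := by group
          _ = z * x := by rw [hzz, mul_one]
      have h3 : z * ρ ^ j * z⁻¹ = ρ ^ j := by
        rw [← conj_pow, h2, inv_pow, ← h1]
      calc z * ρ ^ j = (z * ρ ^ j * z⁻¹) * z := by group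
        _ = ρ ^ j * z := by rw [h3]
    rcases Nat.even_or_odd j with h | h
    · left
      refine ⟨hev j h, ?_⟩
      obtain ⟨i, hi⟩ := h
      refine ⟨ρ ^ i, ?_⟩
      rw [hze, hρ, conj_pow_eq hxx hzz, hi, two_mul]
    · right
      refine ⟨hod j h, ?_⟩
      obtain ⟨i, hi⟩ := h
      -- x * ρ ^ j = ρ ^ (2 * j) * ... 
      refine ⟨ρ ^ (i + 1), ?_⟩
      have h4 : ρ ^ (2 * (i + 1)) * z = ρ ^ j * x := by
        have : 2 * (i + 1) = j + 1 := by omega
        rw [this, pow_succ, mul_assoc]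
        congr 1
        rw [hρ, mul_assoc, hzz, mul_one]
      have h5 : ρ ^ j * x = x * ρ ^ j := by
        have h1 : ρ ^ j = (ρ ^ j)⁻¹ := (inv_eq_of_mul_eq_one_left (by
          rw [← pow_add, ← hj, pow_orderOf_eq_one])).symm
        have h2 : x * ρ * x⁻¹ = ρ⁻¹ := by
          rw [hρ, mul_inv_rev, hz', hx']
          calc x * (x * z) * x = (x * x) * (z * x) := by group
            _ = z * x := by rw [hxx, one_mul]
        have h3 : x * ρ ^ j * x⁻¹ = ρ ^ j := by
          rw [← conj_pow, h2, inv_pow, ← h1]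
        calc ρ ^ j * x = (x * ρ ^ j * x⁻¹) * x := by rw [h3]
          _ = x * ρ ^ j := by group
      rw [← h5, ← h4, hρ, conj_pow_eq hxx hzz]

end Cfsg.Agent.UGT.ThE.Link
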